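import Groth.Agent.QuotCurve.Basic
import Groth.Agent.GenDegree.Semicont
import Groth.Agent.GeomProp.SmoothPoint
import Groth.Agent.CurveRR.Easy
import Groth.Agent.DimChain.Morphism
import Groth.Agent.SmDesc.Scheme

/-! Quotients of smooth proper curves by finite groups of invertible order. -/

set_option autoImplicit false
set_option backward.isDefEq.respectTransparency false
set_option backward.isDefEq.respectTransparency.types false
set_option maxHeartbeats 1000000
universe u

open CategoryTheory AlgebraicGeometry Limits TopologicalSpace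

namespace Groth.Agent.QuotCurve

open Groth.Agent

theorem isIntegral_of_regular {X : Scheme.{u}} [AlgebraicGeometry.IsNoetherian X] [ConnectedSpace X]
    (h : ∀ x : X, IsRegularLocalRing (X.presheaf.stalk x)) : IsIntegral X := by
  have hdom : ∀ x : X, IsDomain (X.presheaf.stalk x) := fun x => by
    haveI := h x
    exact Groth.Agent.S0558.result _
  haveI : ∀ x : X, _root_.IsReduced (X.presheaf.stalk x) := fun x => by haveI := hdom x; infer_instance
  haveI : AlgebraicGeometry.IsReduced X := isReduced_of_isReduced_stalk X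
  haveI : IrreducibleSpace X := CurveRR.Easy.irreducibleSpace_of_domain_stalks hdom
  exact isIntegral_of_irreducibleSpace_of_isReduced X

theorem isNormalScheme_of_regular {X : Scheme.{u}} (h : ∀ x : X, IsRegularLocalRing (X.presheaf.stalk x)) :
    Pi1.IsNormalScheme X := fun x => by
  haveI := h x
  haveI := Groth.Agent.S0558.result (X.presheaf.stalk x)
  exact ⟨inferInstance, RegLoc.isIntegrallyClosed (A := X.presheaf.stalk x)⟩

theorem eq_of_specializes_of_isIntegralHom {X Y : Scheme.{u}} (f : X ⟶ Y) [IsIntegralHom f] {a b : X} (h : a ⤳ b)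
    (he : f a = f b) : a = b := by
  obtain ⟨U, hU, hbU, -⟩ := exists_isAffineOpen_mem_and_subset (U := (⊤ : Y.Opens)) (x := f b) trivial
  have hV : IsAffineOpen (f ⁻¹ᵁ U) := hU.preimage f
  have hb : b ∈ f ⁻¹ᵁ U := hbU
  have ha : a ∈ f ⁻¹ᵁ U := h.mem_open (f ⁻¹ᵁ U).2 hb
  let P := hV.primeIdealOf ⟨a, ha⟩
  let Q := hV.primeIdealOf ⟨b, hb⟩
  have h1 : P ⤳ Q := hV.fromSpec.isOpenEmbedding.isInducing.specializes_iff.1 (by
    rw [hV.fromSpec_primeIdealOf, hV.fromSpec_primeIdealOf]; exact h)
  have hle : P.asIdeal ≤ Q.asIdeal := (PrimeSpectrum.le_iff_specializes _ _).2 h1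
  rcases eq_or_lt_of_le hle with heq | hlt
  · have h2 : P = Q := PrimeSpectrum.ext heq
    exact (hV.fromSpec_primeIdealOf ⟨a, ha⟩).symm.trans ((congrArg hV.fromSpec h2).trans (hV.fromSpec_primeIdealOf ⟨b, hb⟩))
  · exfalso
    letI : Algebra Γ(Y, U) Γ(X, f ⁻¹ᵁ U) := (f.app U).hom.toAlgebra
    haveI : Algebra.IsIntegral Γ(Y, U) Γ(X, f ⁻¹ᵁ U) := ⟨IsIntegralHom.isIntegral_app f U hU⟩
    have h3 := Ideal.IsIntegral.comap_lt_comap (R := Γ(Y, U)) hlt
    have hPc : P.asIdeal.comap (f.appLE U (f ⁻¹ᵁ U) le_rfl).hom = (hU.primeIdealOf ⟨f a, ha⟩).asIdeal :=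
      congrArg PrimeSpectrum.asIdeal (IsAffineOpen.comap_primeIdealOf_appLE U hU (f ⁻¹ᵁ U) hV le_rfl ha)
    have hQc : Q.asIdeal.comap (f.appLE U (f ⁻¹ᵁ U) le_rfl).hom = (hU.primeIdealOf ⟨f b, hb⟩).asIdeal :=
      congrArg PrimeSpectrum.asIdeal (IsAffineOpen.comap_primeIdealOf_appLE U hU (f ⁻¹ᵁ U) hV le_rfl hb)
    rw [← Scheme.Hom.app_eq_appLE] at hPc hQc
    have heq : (hU.primeIdealOf ⟨f a, ha⟩).asIdeal = (hU.primeIdealOf ⟨f b, hb⟩).asIdeal :=
      congrArg (fun z => (hU.primeIdealOf z).asIdeal) (Subtype.ext he)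
    exact h3.ne (hPc.trans (heq.trans hQc.symm))

theorem main (k : Type u) [Field k] {X Y : Scheme.{u}} (p : X ⟶ Spec (CommRingCat.of k)) [IsProper p] [Smooth p]
    [GeometricallyConnected p] (hX : topologicalKrullDim X = 1) {G : Type u} [Group G] [Finite G]
    (hG : ((Nat.card G : ℕ) : k) ≠ 0) (ρ : G →* Aut X) (hρ : Function.Injective ρ)
    (hρk : ∀ g : G, (ρ g).hom ≫ p = p) (π : X ⟶ Y) (q : Y ⟶ Spec (CommRingCat.of k)) (hπ : π ≫ q = p)
    (hquot : SGA1.IsQuot ρ π) :
    IsProper q ∧ Smooth q ∧ GeometricallyConnected q ∧ topologicalKrullDim Y = 1 ∧ IsFinite π ∧ Flat π ∧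
      ∀ y : Y, π.finrank y = Nat.card G := by
  classical
  have hu : IsUnit ((Nat.card G : ℕ) : Γ(Spec (CommRingCat.of k), ⊤)) := by
    have h := (isUnit_iff_ne_zero.2 hG).map (Scheme.ΓSpecIso (CommRingCat.of k)).inv.hom
    rwa [map_natCast] at h
  haveI : IsFinite π := QuotScheme.isFinite_of_isQuot hquot hπ
  haveI := QuotScheme.locallyOfFiniteType_of_isQuot hquot hπ
  haveI : QuasiCompact q := QuotScheme.quasiCompact_of_isQuot hquot hπ
  haveI : IsProper q := QuotScheme.isProper_of_isQuot hquot hπ
  haveI : Surjective π := ⟨QuotScheme.surjective hquot⟩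
  haveI : AlgebraicGeometry.IsNoetherian X := by
    haveI : IsLocallyNoetherian X := LocallyOfFiniteType.isLocallyNoetherian p
    haveI : CompactSpace X := QuasiCompact.compactSpace_of_compactSpace p
    exact {}
  haveI : IsLocallyNoetherian Y := LocallyOfFiniteType.isLocallyNoetherian q
  -- geometric connectedness
  haveI : GeometricallyConnected q := ⟨fun K _ y Z fst snd sq => by
    let f : pullback π fst ⟶ X := pullback.fst π fst
    have sq' : IsPullback (pullback.fst π fst) (pullback.snd π fst ≫ snd) p y := by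
      rw [← hπ]
      exact ((IsPullback.of_hasPullback π fst).paste_vert sq)
    haveI : ConnectedSpace ↥(pullback π fst) := GeometricallyConnected.geometrically_connectedSpace y _ _ sq'
    exact (pullback.snd π fst).surjective.connectedSpace (pullback.snd π fst).continuous⟩
  haveI : ConnectedSpace X := GeometricallyConnected.connectedSpace_of_subsingleton (f := p)
  have hregX : ∀ x : X, IsRegularLocalRing (X.presheaf.stalk x) := fun x =>
    GeomProp.regular_stalk_of_mem_smoothLocus p (by rw [Scheme.Hom.smoothLocus_eq_top]; trivial)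
  haveI := isIntegral_of_regular hregX
  -- dimension
  have hY1 : topologicalKrullDim Y ≤ 1 := by
    rw [← hX]
    exact DimChain.le_of_surjective π (QuotScheme.surjective hquot) (Or.inl (QuotScheme.isOpenMap hquot))
  have hY : topologicalKrullDim Y = 1 :=
    le_antisymm hY1 (hX.symm.le.trans ((DimChain.dim_finite π).trans_le (topologicalKrullDim_subspace_le Y _)))
  -- smoothness
  haveI : LocallyOfFinitePresentation q := QuotScheme.locallyOfFinitePresentation_of_isQuot hquot hπ hu
  haveI hqsm : Smooth q := by
    let K := AlgebraicClosure k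
    let b := Spec.map (CommRingCat.ofHom (algebraMap k K))
    haveI : Flat b := Flat.SpecMap_iff.2 (RingHom.flat_algebraMap_iff.2 inferInstance)
    haveI : Surjective b := ⟨fun y => ⟨IsLocalRing.closedPoint K, Subsingleton.elim _ _⟩⟩
    let π' : pullback p b ⟶ pullback q b :=
      pullback.lift (pullback.fst p b ≫ π) (pullback.snd p b) (by rw [Category.assoc, hπ, pullback.condition])
    have hpb : IsPullback (pullback.fst p b) π' π (pullback.fst q b) := by
      refine IsPullback.of_bot ?_ (pullback.lift_fst _ _ _).symm (IsPullback.of_hasPullback q b)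
      rw [pullback.lift_snd, hπ]
      exact IsPullback.of_hasPullback p b
    have hm : ∀ g : G, (pullback.fst p b ≫ (ρ g).hom) ≫ p = pullback.snd p b ≫ b := fun g => by
      rw [Category.assoc, hρk, pullback.condition]
    let σ : G → (pullback p b ⟶ pullback p b) := fun g =>
      pullback.lift (pullback.fst p b ≫ (ρ g).hom) (pullback.snd p b) (hm g)
    have hσ : ∀ g h, σ (g * h) = σ h ≫ σ g := fun g h => by
      apply pullback.hom_ext
      · simp only [σ, pullback.lift_fst, Category.assoc, pullback.lift_fst_assoc]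
        rw [QuotScheme.rho_mul_hom]
      · simp only [σ, pullback.lift_snd, Category.assoc]
    have hσ1 : σ 1 = 𝟙 _ := by
      apply pullback.hom_ext
      · simp only [σ, pullback.lift_fst, Category.id_comp, QuotScheme.rho_one_hom, Category.comp_id]
      · simp only [σ, pullback.lift_snd, Category.id_comp]
    let ρ' : G →* Aut (pullback p b) :=
      { toFun := fun g => ⟨σ g, σ g⁻¹, by rw [← hσ, inv_mul_cancel, hσ1], by rw [← hσ, mul_inv_cancel, hσ1]⟩
        map_one' := Aut.ext hσ1
        map_mul' := fun g h => Aut.ext (hσ g h) }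
    have hquot' : SGA1.IsQuot ρ' π' := QuotScheme.flat_baseChange hquot (pullback.fst q b) (pullback.fst p b) π' hpb ρ'
      (fun g => pullback.lift_fst _ _ (hm g)) fun g => by
        apply pullback.hom_ext
        · show (σ g ≫ π') ≫ pullback.fst q b = _
          simp only [σ, π', Category.assoc, pullback.lift_fst, pullback.lift_fst_assoc, hquot.inv]
        · show (σ g ≫ π') ≫ pullback.snd q b = _
          simp only [σ, π', Category.assoc, pullback.lift_snd]
    haveI : ConnectedSpace ↥(pullback p b) :=
      GeometricallyConnected.geometrically_connectedSpace b _ _ (IsPullback.of_hasPullback p b)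
    have hregX' : ∀ x : ↥(pullback p b), IsRegularLocalRing ((pullback p b).presheaf.stalk x) := fun x =>
      GeomProp.regular_stalk_of_mem_smoothLocus (pullback.snd p b) (by rw [Scheme.Hom.smoothLocus_eq_top]; trivial)
    haveI : AlgebraicGeometry.IsNoetherian (pullback p b) := by
      haveI : IsLocallyNoetherian (pullback p b) := LocallyOfFiniteType.isLocallyNoetherian (pullback.snd p b)
      haveI : CompactSpace ↥(pullback p b) := QuasiCompact.compactSpace_of_compactSpace (pullback.snd p b)
      exact {}
    haveI := isIntegral_of_regular hregX'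
    haveI : IsLocallyNoetherian (pullback q b) := LocallyOfFiniteType.isLocallyNoetherian (pullback.snd q b)
    have hπ'q : π' ≫ pullback.snd q b = pullback.snd p b := pullback.lift_snd _ _ _
    have hdim' : topologicalKrullDim ↥(pullback q b) ≤ 1 := by
      refine (DimChain.le_of_surjective π' (QuotScheme.surjective hquot') (Or.inl (QuotScheme.isOpenMap hquot'))).trans ?_
      haveI : IsIntegralHom b := (IsIntegralHom.SpecMap_iff).2 (Algebra.IsIntegral.isIntegral (R := k) (A := K))
      exact (DimChain.le_of_incomparable (fun x => (pullback.fst p b).base x) (pullback.fst p b).continuous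
        fun a c h he => eq_of_specializes_of_isIntegralHom (pullback.fst p b) h he).trans hX.le
    have hregY' : ∀ y : ↥(pullback q b), IsRegularLocalRing ((pullback q b).presheaf.stalk y) :=
      regular_of_isQuot (isNormalScheme_of_regular hregX') hquot' hdim'
    rw [← Scheme.Hom.smoothLocus_eq_top_iff, eq_top_iff]
    intro y _
    obtain ⟨y', rfl⟩ := (pullback.fst q b).surjective y
    have h1 : y' ∈ (pullback.snd q b).smoothLocus :=
      GeomProp.mem_smoothLocus_of_regular_perfect (pullback.snd q b) (hregY' y')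
    rw [SmDesc.smoothLocus_eq_preimage (IsPullback.of_hasPullback q b) (Or.inr inferInstance)] at h1
    exact h1
  have hregY : ∀ y : Y, IsRegularLocalRing (Y.presheaf.stalk y) := fun y =>
    GeomProp.regular_stalk_of_mem_smoothLocus q (by rw [Scheme.Hom.smoothLocus_eq_top]; trivial)
  haveI := isIntegral_of_isQuot hquot
  haveI : Flat π := (Flat.iff_flat_stalkMap π).2 fun x =>
    GenDegree.flat_stalkMap_of_quasiFiniteAt π p q hπ (hX.trans hY.symm) x (π.quasiFiniteAt x) (hregX x) (hregY _)
  haveI : X.IsSeparated := ⟨by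
    rw [show terminal.from X = p ≫ terminal.from _ from terminal.hom_ext _ _]
    infer_instance⟩
  exact ⟨inferInstance, hqsm, inferInstance, hY, inferInstance, inferInstance, finrank_eq_card hquot hρ⟩

end Groth.Agent.QuotCurve
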