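import Groth.Agent.QuotScheme.Tame
import Groth.Agent.QuotScheme.BaseChange
import Groth.Agent.NormSect.Basic
import Groth.Agent.RegDual.Scheme
import Groth.Prelude.Def_Pi1
import Mathlib.RingTheory.DedekindDomain.PID
import Mathlib.FieldTheory.Galois.IsGaloisGroup

/-! Finite group quotients of integral normal schemes; quotients of curves. -/

set_option autoImplicit false
universe u

open CategoryTheory AlgebraicGeometry Limits TopologicalSpace

namespace Groth.Agent.QuotCurve

open Groth.Agent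

variable {X Y : Scheme.{u}} {G : Type u} [Group G] [Finite G] {ρ : G →* Aut X} {p : X ⟶ Y}

theorem isIntegral_of_isQuot [IsIntegral X] (hp : SGA1.IsQuot ρ p) : IsIntegral Y := by
  haveI : AlgebraicGeometry.IsReduced Y :=
    ⟨fun U => isReduced_of_injective _ (hp.injective U)⟩
  haveI : Nonempty Y := Nonempty.map p inferInstance
  haveI : IrreducibleSpace Y := by
    have h := (IrreducibleSpace.isIrreducible_univ X).image p p.continuous.continuousOn
    rw [Set.image_univ, (QuotScheme.surjective hp).range_eq] at h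
    exact { isPreirreducible_univ := h.2, toNonempty := inferInstance }
  exact isIntegral_of_irreducibleSpace_of_isReduced Y

/-- invariants of a normal domain are normal -/
theorem isIntegrallyClosed_invariants {B A : Type u} [CommRing B] [CommRing A] [IsDomain A] [IsIntegrallyClosed A]
    [Algebra B A] (hinj : Function.Injective (algebraMap B A)) {G : Type u} [Group G] [MulSemiringAction G A]
    [SMulCommClass G B A] [Algebra.IsInvariant B A G] : IsIntegrallyClosed B := by
  haveI : IsDomain B := hinj.isDomain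
  let ι : FractionRing B →+* FractionRing A :=
    IsFractionRing.map (K := FractionRing B) (L := FractionRing A) hinj
  refine (isIntegrallyClosed_iff (FractionRing B)).2 fun {z} hz => ?_
  obtain ⟨c, d, hd, rfl⟩ := IsFractionRing.div_surjective (A := B) z
  have hd0 : algebraMap B A d ≠ 0 := by
    rw [← map_zero (algebraMap B A)]
    exact hinj.ne (nonZeroDivisors.ne_zero hd)
  have hcomp : ∀ b : B, ι (algebraMap B (FractionRing B) b) = algebraMap A (FractionRing A) (algebraMap B A b) :=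
    fun b => IsLocalization.map_eq _ b
  have hint : IsIntegral A (ι (algebraMap B (FractionRing B) c / algebraMap B (FractionRing B) d)) := by
    obtain ⟨P, hP, h0⟩ := hz
    refine ⟨P.map (algebraMap B A), hP.map _, ?_⟩
    rw [Polynomial.eval₂_map, show (algebraMap A (FractionRing A)).comp (algebraMap B A) =
      ι.comp (algebraMap B (FractionRing B)) from RingHom.ext fun b => (hcomp b).symm, ← Polynomial.hom_eval₂, h0,
      map_zero]
  obtain ⟨a, ha⟩ := IsIntegrallyClosed.isIntegral_iff.1 hint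
  rw [map_div₀, hcomp, hcomp, eq_div_iff (by rwa [Ne, IsFractionRing.to_map_eq_zero_iff]), ← map_mul] at ha
  have ha' := IsFractionRing.injective A (FractionRing A) ha
  obtain ⟨b, rfl⟩ := Algebra.IsInvariant.isInvariant (A := B) (G := G) a fun g => by
    refine mul_right_cancel₀ hd0 (Eq.trans ?_ ha'.symm)
    have : g • (a * algebraMap B A d) = g • algebraMap B A c := by rw [ha']
    rwa [smul_mul', smul_algebraMap, smul_algebraMap] at this
  refine ⟨b, ?_⟩
  rw [← map_mul] at ha'
  rw [eq_div_iff (by rw [Ne, IsFractionRing.to_map_eq_zero_iff]; exact nonZeroDivisors.ne_zero hd), ← map_mul,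
    hinj ha']

theorem isNormal_of_isQuot [IsIntegral X] (hX : Pi1.IsNormalScheme X) (hp : SGA1.IsQuot ρ p) :
    Pi1.IsNormalScheme Y := by
  haveI := isIntegral_of_isQuot hp
  haveI := hp.affine
  intro y
  obtain ⟨U, hU, hyU, -⟩ := QuotScheme.exists_affine_nbhd (Y := Y) (O := ⊤) (y := y) trivial
  obtain ⟨x, hx⟩ := QuotScheme.surjective hp y
  haveI : Nonempty (U : Scheme.{u}) := ⟨⟨y, hyU⟩⟩
  haveI : Nonempty ((p ⁻¹ᵁ U : X.Opens) : Scheme.{u}) := ⟨⟨x, by show p x ∈ U; rw [hx]; exact hyU⟩⟩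
  haveI := NormSect.isIntegrallyClosed_sections (p ⁻¹ᵁ U) fun z _ => (hX z).2
  let := QuotScheme.sectionsAction hp.inv U
  let := QuotScheme.sectionsAlgebra p U
  haveI := QuotScheme.isInvariant_sections hp U
  haveI := QuotScheme.smulCommClass_sections hp U
  haveI : IsIntegrallyClosed Γ(Y, U) := isIntegrallyClosed_invariants (A := Γ(X, p ⁻¹ᵁ U)) (hp.injective U) (G := G)
  refine ⟨inferInstance, ?_⟩
  letI := TopCat.Presheaf.algebra_section_stalk Y.presheaf (⟨y, hyU⟩ : U)
  haveI := hU.isLocalization_stalk ⟨y, hyU⟩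
  exact isIntegrallyClosed_of_isLocalization (Y.presheaf.stalk y) _
    (Ideal.primeCompl_le_nonZeroDivisors (hU.primeIdealOf ⟨y, hyU⟩).asIdeal)

/-- normal Noetherian local domains of dimension at most one are regular -/
theorem isRegularLocalRing_of_normal {R : Type u} [CommRing R] [IsDomain R] [IsLocalRing R] [IsNoetherianRing R]
    [IsIntegrallyClosed R] (h : ringKrullDim R ≤ 1) : IsRegularLocalRing R := by
  haveI : Ring.DimensionLEOne R := ⟨fun {P} hP0 hP => by
    haveI := hP
    obtain ⟨m, hm, hPm⟩ := Ideal.exists_le_maximal P hP.ne_top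
    rcases eq_or_lt_of_le hPm with rfl | hlt
    · exact hm
    · exfalso
      haveI := hm.isPrime
      let s : LTSeries (PrimeSpectrum R) :=
        { length := 2
          toFun := ![⟨⊥, Ideal.isPrime_bot⟩, ⟨P, hP⟩, ⟨m, hm.isPrime⟩]
          step := fun i => by
            fin_cases i
            · exact bot_lt_iff_ne_bot.2 hP0
            · exact hlt }
      have h2 : ((2 : ℕ) : WithBot ℕ∞) ≤ ringKrullDim R := Order.LTSeries.length_le_krullDim s
      exact absurd (h2.trans h) (by norm_num)⟩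
  haveI : IsDedekindDomain R := {}
  haveI : IsPrincipalIdealRing R := IsPrincipalIdealRing.of_finite_maximals
    ((Set.finite_singleton (IsLocalRing.maximalIdeal R)).subset fun I hI => IsLocalRing.eq_maximalIdeal hI)
  infer_instance

theorem regular_of_isQuot [IsIntegral X] [IsLocallyNoetherian Y] (hX : Pi1.IsNormalScheme X) (hp : SGA1.IsQuot ρ p)
    (hdim : topologicalKrullDim Y ≤ 1) (y : Y) : IsRegularLocalRing (Y.presheaf.stalk y) := by
  haveI := (isNormal_of_isQuot hX hp y).1
  haveI := (isNormal_of_isQuot hX hp y).2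
  exact isRegularLocalRing_of_normal ((RegDual.ringKrullDim_stalk_le_topologicalKrullDim y).trans hdim)

/-- the degree of a faithful quotient on an affine open -/
theorem finrank_sections [IsIntegral X] [X.IsSeparated] (hp : SGA1.IsQuot ρ p) (hρ : Function.Injective ρ)
    {U : Y.Opens} (hU : IsAffineOpen U) [Nonempty (U : Scheme.{u})] :
    letI := QuotScheme.sectionsAlgebra p U
    Module.finrank Γ(Y, U) Γ(X, p ⁻¹ᵁ U) = Nat.card G := by
  haveI := hp.affine
  obtain ⟨⟨y, hyU⟩⟩ := (inferInstance : Nonempty (U : Scheme.{u}))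
  obtain ⟨x, hx⟩ := QuotScheme.surjective hp y
  haveI : Nonempty ((p ⁻¹ᵁ U : X.Opens) : Scheme.{u}) := ⟨⟨x, by show p x ∈ U; rw [hx]; exact hyU⟩⟩
  let := QuotScheme.sectionsAction hp.inv U
  let := QuotScheme.sectionsAlgebra p U
  haveI := QuotScheme.isInvariant_sections hp U
  haveI := QuotScheme.smulCommClass_sections hp U
  haveI : FaithfulSMul Γ(Y, U) Γ(X, p ⁻¹ᵁ U) :=
    (faithfulSMul_iff_algebraMap_injective _ _).2 (hp.injective U)
  have hV : IsAffineOpen (p ⁻¹ᵁ U) := hU.preimage p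
  haveI : FaithfulSMul G Γ(X, p ⁻¹ᵁ U) := ⟨fun {g h} hgh => by
    haveI : IsAffine (p ⁻¹ᵁ U : X.Opens) := hV
    have key : ∀ a b : G, (∀ s : Γ(X, p ⁻¹ᵁ U), a • s = b • s) → (ρ a⁻¹).hom = (ρ b⁻¹).hom := by
      intro a b hab
      have happ : (ρ a⁻¹).hom.appLE (p ⁻¹ᵁ U) (p ⁻¹ᵁ U) (SGA1.preimage_le_of_inv ρ p hp.inv a⁻¹ U) =
          (ρ b⁻¹).hom.appLE (p ⁻¹ᵁ U) (p ⁻¹ᵁ U) (SGA1.preimage_le_of_inv ρ p hp.inv b⁻¹ U) :=
        CommRingCat.hom_ext (RingHom.ext hab)
      have hres : hV.fromSpec ≫ (ρ a⁻¹).hom = hV.fromSpec ≫ (ρ b⁻¹).hom := by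
        rw [← IsAffineOpen.SpecMap_appLE_fromSpec (ρ a⁻¹).hom hV hV (SGA1.preimage_le_of_inv ρ p hp.inv a⁻¹ U),
          ← IsAffineOpen.SpecMap_appLE_fromSpec (ρ b⁻¹).hom hV hV (SGA1.preimage_le_of_inv ρ p hp.inv b⁻¹ U), happ]
      haveI : IsDominant hV.fromSpec := ⟨by
        rw [DenseRange, hV.range_fromSpec]
        exact (p ⁻¹ᵁ U).2.dense ⟨x, by show p x ∈ U; rw [hx]; exact hyU⟩⟩
      exact ext_of_isDominant hV.fromSpec hres
    exact inv_injective (hρ (Aut.ext (key g h hgh)))⟩
  haveI : IsGaloisGroup G Γ(Y, U) Γ(X, p ⁻¹ᵁ U) :=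
    { faithful := inferInstance, commutes := inferInstance, isInvariant := inferInstance }
  exact (IsGaloisGroup.card_eq_finrank' G Γ(Y, U) Γ(X, p ⁻¹ᵁ U)).symm

theorem finrank_eq_card [IsIntegral X] [X.IsSeparated] [IsFinite p] [Flat p] (hp : SGA1.IsQuot ρ p)
    (hρ : Function.Injective ρ) (y : Y) : p.finrank y = Nat.card G := by
  haveI := hp.affine
  haveI := isIntegral_of_isQuot hp
  obtain ⟨U, hU, hyU, -⟩ := QuotScheme.exists_affine_nbhd (Y := Y) (O := ⊤) (y := y) trivial
  haveI : Nonempty (U : Scheme.{u}) := ⟨⟨y, hyU⟩⟩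
  rw [← finrank_sections hp hρ hU]
  letI := QuotScheme.sectionsAlgebra p U
  have hV : IsAffineOpen (p ⁻¹ᵁ U) := hU.preimage p
  haveI : Module.Finite Γ(Y, U) Γ(X, p ⁻¹ᵁ U) := p.finite_app U hU
  haveI : Module.Flat Γ(Y, U) Γ(X, p ⁻¹ᵁ U) := by
    have h := HasRingHomProperty.appLE @Flat p inferInstance ⟨U, hU⟩ ⟨_, hV⟩ le_rfl
    rw [← Scheme.Hom.app_eq_appLE] at h
    exact h
  let q := hU.primeIdealOf ⟨y, hyU⟩
  have hpb : IsPullback hV.fromSpec (Spec.map (p.app U)) p hU.fromSpec := by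
    have h1 : Spec.map (p.app U) ≫ hU.fromSpec = hV.fromSpec ≫ p := by
      rw [Scheme.Hom.app_eq_appLE]
      exact IsAffineOpen.SpecMap_appLE_fromSpec p hU hV le_rfl
    refine (isPullback_morphismRestrict p U).flip.of_iso hV.isoSpec (Iso.refl _) hU.isoSpec (Iso.refl _) ?_ ?_ (by simp) ?_
    · rw [Iso.refl_hom, Category.comp_id, IsAffineOpen.isoSpec_hom_fromSpec]
    · rw [← cancel_mono hU.fromSpec, Category.assoc, IsAffineOpen.isoSpec_hom_fromSpec, morphismRestrict_ι,
        Category.assoc, h1, ← Category.assoc, IsAffineOpen.isoSpec_hom_fromSpec]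
    · rw [Iso.refl_hom, Category.comp_id, IsAffineOpen.isoSpec_hom_fromSpec]
  have e1 : p.finrank y = Module.rankAtStalk (R := Γ(Y, U)) Γ(X, p ⁻¹ᵁ U) q := by
    rw [show y = hU.fromSpec q from (hU.fromSpec_primeIdealOf ⟨y, hyU⟩).symm,
      ← Scheme.Hom.finrank_of_isPullback hV.fromSpec (Spec.map (p.app U)) p hU.fromSpec
        hpb]
    exact Scheme.Hom.finrank_SpecMap_algebraMap Γ(Y, U) Γ(X, p ⁻¹ᵁ U) q
  rw [e1, Module.rankAtStalk]
  refine (IsLocalization.finrank_eq (Localization.AtPrime q.asIdeal) q.asIdeal.primeCompl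
    (Ideal.primeCompl_le_nonZeroDivisors q.asIdeal)).trans ?_
  exact IsLocalizedModule.finrank_eq q.asIdeal.primeCompl (LocalizedModule.mkLinearMap q.asIdeal.primeCompl _)
    (Ideal.primeCompl_le_nonZeroDivisors q.asIdeal)

end Groth.Agent.QuotCurve
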